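import Cfsg.Agent.Lib.KnownSimple.CommutingPElement
import Cfsg.Agent.Lib.ClassicalLinear.SympBasic
import Cfsg.Agent.Lib.ClassicalLinear.SympCard

/-!
Elements of order `r * p` in symplectic groups in characteristic `p`.
-/

set_option autoImplicit false

namespace CfsgLib.SympPrimeAdj

open CfsgLib.ClassicalLinear CfsgLib.KnownSimple.CommutingPElement Polynomial Module

variable {F : Type*} [Field F] [Fintype F]

/-- A quotient by a subgroup of order prime to `m` has an element of order `m` iff the group has. -/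
theorem mem_range_orderOf_quotient_iff {H : Type*} [Group H] [Finite H] (Z : Subgroup H) [Z.Normal]
    {m : ℕ} (h : Nat.Coprime (Nat.card Z) m) :
    m ∈ Set.range (orderOf : H ⧸ Z → ℕ) ↔ m ∈ Set.range (orderOf : H → ℕ) := by
  constructor
  · rintro ⟨g, hg⟩
    obtain ⟨g, rfl⟩ := QuotientGroup.mk_surjective g
    have hd : m ∣ orderOf g := hg ▸ orderOf_map_dvd (QuotientGroup.mk' Z) g
    exact ⟨g ^ (orderOf g / m), orderOf_pow_orderOf_div (orderOf_pos g).ne' hd⟩
  · rintro ⟨g, hg⟩
    refine ⟨QuotientGroup.mk g, Nat.dvd_antisymm (hg ▸ orderOf_map_dvd (QuotientGroup.mk' Z) g) ?_⟩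
    have h1 : g ^ orderOf (QuotientGroup.mk g : H ⧸ Z) ∈ Z := by
      rw [← QuotientGroup.eq_one_iff, QuotientGroup.mk_pow, pow_orderOf_eq_one]
    have h2 := orderOf_dvd_natCard (⟨_, h1⟩ : Z)
    rw [← Subgroup.orderOf_coe] at h2
    have h3 : (g ^ orderOf (QuotientGroup.mk g : H ⧸ Z)) ^ Nat.card Z = 1 :=
      orderOf_dvd_iff_pow_eq_one.1 h2
    rw [← pow_mul, ← orderOf_dvd_iff_pow_eq_one, hg] at h3
    exact (Nat.Coprime.dvd_of_dvd_mul_right h.symm h3)

theorem dvd_pow_sub_one_iff (r d : ℕ) :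
    r ∣ Fintype.card F ^ d - 1 ↔ orderOf ((Fintype.card F : ℕ) : ZMod r) ∣ d := by
  rw [orderOf_dvd_iff_pow_eq_one, ← Nat.cast_pow, ← ZMod.natCast_eq_zero_iff,
    Nat.cast_sub (Nat.one_le_pow _ _ Fintype.card_pos), Nat.cast_one, sub_eq_zero]

theorem not_dvd_card_field (p r : ℕ) [Fact p.Prime] [CharP F p] (hr : r.Prime) (hrp : r ≠ p) :
    ¬ r ∣ Fintype.card F := by
  obtain ⟨f, -, hqf⟩ := CfsgLib.ClassicalLinear.card_field_eq_pow (F := F) p
  intro h
  rw [hqf] at h
  exact hrp ((Nat.prime_dvd_prime_iff_eq hr Fact.out).1 (hr.dvd_of_dvd_pow h))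

theorem dvd_card_sp (p r : ℕ) [Fact p.Prime] [CharP F p] (hr : r.Prime) (hrp : r ≠ p) (m : ℕ) :
    r ∣ Nat.card (Matrix.symplecticGroup (Fin m) F) →
      ∃ i, i < m ∧ orderOf ((Fintype.card F : ℕ) : ZMod r) ∣ 2 * (i + 1) := by
  rw [card_sp, hr.dvd_mul, hr.prime.dvd_finsetProd_iff]
  rintro (h | ⟨i, hi, h⟩)
  · exact absurd (hr.dvd_of_dvd_pow h) (not_dvd_card_field p r hr hrp)
  · exact ⟨i, Finset.mem_range.1 hi, (dvd_pow_sub_one_iff r _).1 h⟩

theorem dvd_card_sp_of_le (r : ℕ) {m η : ℕ} (h0 : 0 < η) (hm : η ≤ m)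
    (hk : orderOf ((Fintype.card F : ℕ) : ZMod r) ∣ 2 * η) :
    r ∣ Nat.card (Matrix.symplecticGroup (Fin m) F) := by
  rw [card_sp]
  refine Dvd.dvd.mul_left ?_ _
  refine Dvd.dvd.trans ?_ (Finset.dvd_prod_of_mem _ (Finset.mem_range.2 (show η - 1 < m by omega)))
  rw [show η - 1 + 1 = η by omega, dvd_pow_sub_one_iff]
  exact hk

/-- The order of the stabiliser of a non-zero vector. -/
theorem card_stab {m : ℕ} {v : Fin (m + 1) ⊕ Fin (m + 1) → F} (hv : v ≠ 0) :
    Nat.card (MulAction.stabilizer (Matrix.symplecticGroup (Fin (m + 1)) F) v) =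
      Fintype.card F ^ (2 * m + 1) * Nat.card (Matrix.symplecticGroup (Fin m) F) := by
  classical
  have horb : MulAction.orbit (Matrix.symplecticGroup (Fin (m + 1)) F) v = {w | w ≠ 0} := by
    ext w
    constructor
    · rintro ⟨g, rfl⟩ h
      exact hv (by have := congrArg (fun z => g⁻¹ • z) h; simpa using this)
    · intro hw
      exact exists_sp_smul_eq hv hw
  have h := MulAction.card_orbit_mul_card_stabilizer_eq_card_group
    (Matrix.symplecticGroup (Fin (m + 1)) F) v
  simp only [← Nat.card_eq_fintype_card] at h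
  rw [horb] at h
  have hne : Nat.card {w : Fin (m + 1) ⊕ Fin (m + 1) → F | w ≠ 0} =
      Fintype.card F ^ (2 * (m + 1)) - 1 := by
    rw [Set.coe_setOf, Nat.card_eq_fintype_card, Fintype.card_subtype_compl,
      Fintype.card_subtype_eq, Fintype.card_fun, Fintype.card_sum, Fintype.card_fin]
    ring_nf
  rw [hne, card_sp_succ, mul_assoc] at h
  have : 1 < Fintype.card F ^ (2 * (m + 1)) := Nat.one_lt_pow (by omega) Fintype.one_lt_card
  exact Nat.eq_of_mul_eq_mul_left (by omega) h

/-- An element of order `r` fixing a vector commutes with a transvection. -/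
theorem mem_range_of_le (p r : ℕ) [Fact p.Prime] [CharP F p] (hr : r.Prime) (hrp : r ≠ p) {m η : ℕ}
    (h0 : 0 < η) (hη : η ≤ m) (hk : orderOf ((Fintype.card F : ℕ) : ZMod r) ∣ 2 * η) :
    r * p ∈ Set.range (orderOf : Matrix.symplecticGroup (Fin (m + 1)) F → ℕ) := by
  have := Fact.mk hr
  let v : Fin (m + 1) ⊕ Fin (m + 1) → F := Pi.single (Sum.inl 0) 1
  have hv : v ≠ 0 := by simp [v]
  have hdvd : r ∣ Nat.card (MulAction.stabilizer (Matrix.symplecticGroup (Fin (m + 1)) F) v) := by
    rw [card_stab hv]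
    exact Dvd.dvd.mul_left (dvd_card_sp_of_le r h0 hη hk) _
  obtain ⟨g, hg⟩ := exists_prime_orderOf_dvd_card' r hdvd
  rw [← Subgroup.orderOf_coe] at hg
  have hpow : ∀ c : ℕ, (spT v (1 : F)) ^ c = spT v (c : F) := by
    intro c
    induction c with
    | zero => rw [pow_zero, Nat.cast_zero, spT_zero]
    | succ c ih => rw [pow_succ, ih, spT_add, Nat.cast_succ]
  have hT : orderOf (spT v (1 : F)) = p := by
    refine orderOf_eq_prime (by rw [hpow, CharP.cast_eq_zero, spT_zero]) fun h => ?_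
    obtain ⟨u, hu⟩ := exists_sympForm_eq_one hv
    have h1 := congrArg (fun t : Matrix.symplecticGroup (Fin (m + 1)) F => t • u) h
    simp only [spT_smul, one_smul, one_mul, add_eq_left, sympForm_skew u v, hu] at h1
    exact hv (by simpa using h1)
  have hc : Commute (g : Matrix.symplecticGroup (Fin (m + 1)) F) (spT v (1 : F)) := by
    have := conj_spT (g : Matrix.symplecticGroup (Fin (m + 1)) F) v (1 : F)
    rw [MulAction.mem_stabilizer_iff.1 g.2] at this
    exact mul_inv_eq_iff_eq_mul.1 this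
  refine ⟨(g : Matrix.symplecticGroup (Fin (m + 1)) F) * spT v (1 : F), ?_⟩
  rw [hc.orderOf_mul_eq_mul_orderOf_of_coprime (by
    rw [hg, hT]; exact (Nat.coprime_primes hr Fact.out).2 hrp), hg, hT]

section irreducible

variable {V : Type*} [AddCommGroup V] [Module F V] [FiniteDimensional F V]

/-- If `n` is odd, a map of odd prime order `r`, for which `q` has order `n` modulo `r`, on a space
of dimension at most `n` and without fixed vectors is not a root of the reverse of its minimal
polynomial. -/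
theorem false_of_reverse {r n : ℕ} (hr : r.Prime) (hr2 : r ≠ 2) (hn : Odd n)
    (hk : orderOf ((Fintype.card F : ℕ) : ZMod r) = n) (hV : finrank F V ≤ n) (h0 : 0 < finrank F V)
    (y : Module.End F V) (hy : y ^ r = 1) (hfix : ∀ v, y v = v → v = 0)
    (hrev : aeval (y ^ (r - 1)) (minpoly F y) = 0) : False := by
  classical
  have := Fact.mk hr
  haveI : Nontrivial V := nontrivial_of_finrank_pos h0
  set f := minpoly F y with hf
  have hint : IsIntegral F y := Algebra.IsIntegral.isIntegral y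
  have hdeg : f.natDegree ≤ n := by
    refine le_trans ?_ hV
    rw [← LinearMap.charpoly_natDegree y]
    exact natDegree_le_of_dvd (LinearMap.minpoly_dvd_charpoly y) (LinearMap.charpoly_monic y).ne_zero
  obtain ⟨g, hgi, hgf⟩ := WfDvdMonoid.exists_irreducible_factor (minpoly.not_isUnit F y) (minpoly.ne_zero hint)
  haveI := Fact.mk hgi
  let K := AdjoinRoot g
  have hdvd : f ∣ X ^ r - 1 := minpoly.dvd F y (by simp [hy])
  set μ : K := AdjoinRoot.root g with hμ
  have hμr : μ ^ r = 1 := by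
    have h := AdjoinRoot.mk_eq_zero.2 (hgf.trans hdvd)
    rw [map_sub, map_pow, AdjoinRoot.mk_X, map_one, sub_eq_zero] at h
    exact h
  have hμ1 : μ ≠ 1 := by
    intro h
    have h1 : g ∣ X - 1 := AdjoinRoot.mk_eq_zero.1 (by rw [map_sub, AdjoinRoot.mk_X, map_one, ← hμ, h, sub_self])
    have h2 : Associated g (X - 1) := hgi.associated_of_dvd (by simpa using irreducible_X_sub_C (1 : F)) h1
    obtain ⟨c, hc⟩ := h2.symm.dvd.trans hgf
    have h3 : f = (X - 1) * c := hc
    have hc0 : aeval y c = 0 := by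
      refine LinearMap.ext fun v => hfix _ ?_
      have h4 := congr($(congrArg (aeval y) h3) v)
      rw [hf, minpoly.aeval, map_mul, map_sub, aeval_X, map_one, Module.End.mul_apply,
        LinearMap.zero_apply, LinearMap.sub_apply, Module.End.one_apply, eq_comm, sub_eq_zero] at h4
      simpa using h4
    have hcne : c ≠ 0 := fun h5 => minpoly.ne_zero hint (by rw [← hf, h3, h5, mul_zero])
    have h6 := natDegree_le_of_dvd (minpoly.dvd F y hc0) hcne
    rw [← hf, h3, natDegree_mul (by simpa using X_sub_C_ne_zero (1 : F)) hcne,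
      show (X - 1 : F[X]) = X - C 1 by simp, natDegree_X_sub_C] at h6
    omega
  have hμo : orderOf μ = r := orderOf_eq_prime hμr hμ1
  have hgd : g.natDegree ≤ n :=
    (natDegree_le_of_dvd hgf (minpoly.ne_zero hint)).trans hdeg
  have hKfr : finrank F K = g.natDegree :=
    (AdjoinRoot.powerBasis hgi.ne_zero).finrank.trans (AdjoinRoot.powerBasis_dim hgi.ne_zero)
  haveI : Module.Finite F K := (AdjoinRoot.powerBasis hgi.ne_zero).finite
  haveI : Finite K := Module.finite_of_finite F
  letI := Fintype.ofFinite K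
  have hμ0 : μ ≠ 0 := fun h => by
    rw [h, zero_pow hr.ne_zero] at hμr
    exact zero_ne_one hμr
  have hr' : r ∣ Fintype.card F ^ g.natDegree - 1 := by
    rw [← hKfr, ← Module.card_eq_pow_finrank (K := F) (V := K), ← hμo]
    exact orderOf_dvd_of_pow_eq_one (FiniteField.pow_card_sub_one_eq_one μ hμ0)
  rw [dvd_pow_sub_one_iff, hk] at hr'
  have hgn : g.natDegree = n := le_antisymm hgd (Nat.le_of_dvd hgi.natDegree_pos hr')
  have hfg : f ∣ g := (associated_of_dvd_of_natDegree_le hgf (minpoly.ne_zero hint)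
    (by rw [← hf]; omega)).symm.dvd
  have hroot : eval₂ (algebraMap F K) (μ ^ (r - 1)) g = 0 := by
    have h1 : aeval (y ^ (r - 1)) g = 0 :=
      (aeval_eq_zero_of_dvd_aeval_eq_zero (Associated.dvd
        (associated_of_dvd_of_natDegree_le hgf (minpoly.ne_zero hint) (by rw [← hf]; omega)).symm) hrev)
    have h2 : aeval y (g.comp (X ^ (r - 1))) = 0 := by
      rw [aeval_comp, map_pow, aeval_X, h1]
    have h3 : g ∣ g.comp (X ^ (r - 1)) := hgf.trans (minpoly.dvd F y h2)
    have h4 : aeval μ (g.comp (X ^ (r - 1))) = 0 :=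
      aeval_eq_zero_of_dvd_aeval_eq_zero h3 (by rw [AdjoinRoot.aeval_eq, AdjoinRoot.mk_self])
    rwa [aeval_comp, map_pow, aeval_X, aeval_def] at h4
  let σ : K →ₐ[F] K := AdjoinRoot.liftAlgHom g (Algebra.ofId F K) (μ ^ (r - 1)) hroot
  have hσμ : σ μ = μ ^ (r - 1) := AdjoinRoot.lift_root hroot
  let τ : K ≃ₐ[F] K := AlgEquiv.ofBijective σ
    (Finite.injective_iff_bijective.1 σ.toRingHom.injective)
  have hτ2 : τ ^ 2 = 1 := by
    refine AlgEquiv.coe_algHom_injective (AdjoinRoot.algHom_ext ?_)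
    change σ (σ μ) = μ
    rw [hσμ, map_pow, hσμ, ← pow_mul]
    obtain ⟨s, hs⟩ : ∃ s, r = s + 2 := ⟨r - 2, by have := hr.two_le; omega⟩
    rw [show r - 1 = s + 1 by omega, show (s + 1) * (s + 1) = (s + 2) * s + 1 by ring, ← hs,
      pow_succ, pow_mul, hμr, one_pow, one_mul]
  have hτn : τ ^ n = 1 := by
    rw [← hgn, ← hKfr, ← IsGalois.card_aut_eq_finrank F K]
    exact pow_card_eq_one'
  have hτ1 : τ = 1 := by
    obtain ⟨t, rfl⟩ := hn
    rwa [pow_succ, pow_mul, hτ2, one_pow, one_mul] at hτn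
  have h5 : μ ^ (r - 1) = μ := by rw [← hσμ]; exact congr($hτ1 μ)
  have h6 : μ ^ 2 = 1 := by
    calc μ ^ 2 = μ ^ (r - 1) * μ := by rw [h5, sq]
      _ = 1 := by rw [← pow_succ, Nat.sub_add_cancel hr.one_lt.le, hμr]
  have h7 := hμo ▸ orderOf_dvd_of_pow_eq_one h6
  exact hr2 ((Nat.prime_dvd_prime_iff_eq hr Nat.prime_two).1 h7)

end irreducible

theorem not_mem_range (p r : ℕ) [Fact p.Prime] [CharP F p] (hr : r.Prime) (hr2 : r ≠ 2) (hrp : r ≠ p)
    {m : ℕ} (hm : 1 ≤ m) {η : ℕ}
    (hη : (Odd (orderOf ((Fintype.card F : ℕ) : ZMod r)) ∧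
        η = orderOf ((Fintype.card F : ℕ) : ZMod r)) ∨
      (Even (orderOf ((Fintype.card F : ℕ) : ZMod r)) ∧
        2 * η = orderOf ((Fintype.card F : ℕ) : ZMod r)))
    (hlt : m < η) :
    r * p ∉ Set.range (orderOf : Matrix.symplecticGroup (Fin (m + 1)) F → ℕ) := by
  classical
  set k := orderOf ((Fintype.card F : ℕ) : ZMod r) with hk
  rintro ⟨h, hh⟩
  have hp := (Fact.out : p.Prime)
  set u := h ^ r with hu
  set x := h ^ p with hx
  have huo : orderOf u = p := by
    rw [hu, orderOf_pow' _ hr.ne_zero, hh, Nat.gcd_mul_right_left, Nat.mul_div_cancel_left _ hr.pos]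
  have hxo : orderOf x = r := by
    rw [hx, orderOf_pow' _ hp.ne_zero, hh, Nat.gcd_mul_left_left, Nat.mul_div_cancel _ hp.pos]
  have hxne : x ≠ 1 := fun h1 => hr.ne_one (by rw [← hxo, h1, orderOf_one])
  -- `q` has large order modulo `r`
  have hkη : η = m + 1 := by
    obtain ⟨i, hi, hki⟩ := dvd_card_sp p r hr hrp (m + 1)
      (hxo ▸ orderOf_dvd_natCard x : r ∣ Nat.card (Matrix.symplecticGroup (Fin (m + 1)) F))
    rw [← hk] at hki
    rcases hη with ⟨hodd, he⟩ | ⟨-, he⟩
    · have := Nat.le_of_dvd (by omega) ((Nat.coprime_two_right.2 hodd).dvd_of_dvd_mul_left hki)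
      omega
    · rw [← he] at hki
      have := Nat.le_of_dvd (by omega) (Nat.dvd_of_mul_dvd_mul_left (by norm_num) hki)
      omega
  -- `x` fixes no vector
  have hnofix : ∀ v : Fin (m + 1) ⊕ Fin (m + 1) → F, x • v = v → v = 0 := by
    intro v hv
    by_contra hv0
    have h1 : r ∣ Nat.card (MulAction.stabilizer (Matrix.symplecticGroup (Fin (m + 1)) F) v) := by
      rw [← hxo, ← Subgroup.orderOf_mk (a := x) (ha := MulAction.mem_stabilizer_iff.2 hv)]
      exact orderOf_dvd_natCard _
    rw [card_stab hv0, hr.dvd_mul] at h1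
    rcases h1 with h1 | h1
    · exact not_dvd_card_field p r hr hrp (hr.dvd_of_dvd_pow h1)
    · obtain ⟨i, hi, hki⟩ := dvd_card_sp p r hr hrp m h1
      rw [← hk] at hki
      rcases hη with ⟨hodd, he⟩ | ⟨-, he⟩
      · have := Nat.le_of_dvd (by omega) ((Nat.coprime_two_right.2 hodd).dvd_of_dvd_mul_left hki)
        omega
      · rw [← he] at hki
        have := Nat.le_of_dvd (by omega) (Nat.dvd_of_mul_dvd_mul_left (by norm_num) hki)
        omega
  -- small general linear groups have order prime to `r`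
  have hGL : ∀ d, d < k → ¬ r ∣ Nat.card (GL (Fin d) F) := by
    intro d hd hdvd
    rw [CfsgLib.ClassicalLinear.card_GL_eq_pow_mul, Fintype.card_fin, hr.dvd_mul,
      hr.prime.dvd_finsetProd_iff] at hdvd
    rcases hdvd with h1 | ⟨i, hi, h1⟩
    · exact not_dvd_card_field p r hr hrp (hr.dvd_of_dvd_pow h1)
    · rw [dvd_pow_sub_one_iff, ← hk] at h1
      have := Nat.le_of_dvd (Nat.succ_pos _) h1
      rw [Finset.mem_range] at hi
      omega
  let toEnd := Matrix.toLinAlgEquiv' (R := F) (n := Fin (m + 1) ⊕ Fin (m + 1))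
  set X' : Module.End F (Fin (m + 1) ⊕ Fin (m + 1) → F) := toEnd x.1 with hX'
  set N : Module.End F (Fin (m + 1) ⊕ Fin (m + 1) → F) := toEnd (u.1 - 1) with hN'
  have hdim : finrank F (Fin (m + 1) ⊕ Fin (m + 1) → F) = 2 * (m + 1) := by
    rw [Module.finrank_fintype_fun_eq_card, Fintype.card_sum, Fintype.card_fin]; ring
  have hXr : X' ^ r = 1 := by
    rw [hX', ← map_pow, ← map_one toEnd, ← SubmonoidClass.coe_pow, ← hxo, pow_orderOf_eq_one]
    rfl
  have hcomm : Commute X' N := by
    refine Commute.map (Commute.sub_right ?_ (Commute.one_right _)) toEnd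
    exact congrArg Subtype.val ((Commute.refl h).pow_pow p r).eq
  have hN0 : N ≠ 0 := fun h0 => hp.ne_one (by
    rw [← huo, show u = 1 from Subtype.ext (sub_eq_zero.1 (toEnd.injective (h0.trans (map_zero toEnd).symm))),
      orderOf_one])
  have hnil : IsNilpotent N := by
    refine IsNilpotent.map ⟨p, ?_⟩ toEnd
    have hc : CharP (Matrix (Fin (m + 1) ⊕ Fin (m + 1)) (Fin (m + 1) ⊕ Fin (m + 1)) F) p :=
      Matrix.charP (n := Fin (m + 1) ⊕ Fin (m + 1)) (R := F) p
    rw [sub_pow_char_of_commute p (Commute.one_right u.1), one_pow, ← SubmonoidClass.coe_pow,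
      ← huo, pow_orderOf_eq_one]
    exact sub_self _
  rcases hη with ⟨hodd, he⟩ | ⟨-, he⟩
  swap
  · have h1 := eq_one_of_commute p r hr hrp (by rw [hdim]; omega)
      (fun d hd => hGL d (by rw [hdim] at hd; omega)) X' N hXr hcomm hN0 hnil
    exact hxne (Subtype.ext (toEnd.injective (h1.trans (map_one toEnd).symm)))
  have hbig : ∀ W : Submodule F (Fin (m + 1) ⊕ Fin (m + 1) → F), (∀ v ∈ W, X' v ∈ W) → W ≠ ⊥ →
      m + 1 ≤ finrank F W := by
    intro W hW hWne
    by_contra hlt'
    obtain ⟨v, hv, hv0⟩ := (Submodule.ne_bot_iff W).1 hWne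
    have h1 := sub_mem_of_section r hr X' hXr ⊥ W bot_le
      (fun w hw => by simp [(Submodule.mem_bot F).1 hw]) hW
      (hGL _ (by rw [finrank_bot]; omega)) v hv
    exact hv0 (hnofix v (sub_eq_zero.1 ((Submodule.mem_bot F).1 h1)))
  have hcv : ∀ v, X' (N v) = N (X' v) := fun v => DFunLike.congr_fun hcomm.eq v
  have hkerW : ∀ v ∈ LinearMap.ker N, X' v ∈ LinearMap.ker N := fun v hv => by
    rw [LinearMap.mem_ker] at hv ⊢; rw [← hcv, hv, map_zero]
  have hranW : ∀ v ∈ LinearMap.range N, X' v ∈ LinearMap.range N := by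
    rintro _ ⟨v, rfl⟩; exact ⟨X' v, (hcv v).symm⟩
  have hkne : LinearMap.ker N ≠ ⊥ := by
    intro h0
    obtain ⟨s, hs⟩ := hnil
    have hinj : Function.Injective (⇑(N ^ s)) := by
      rw [Module.End.coe_pow]; exact (LinearMap.ker_eq_bot.1 h0).iterate s
    refine hN0 (LinearMap.ext fun v => hinj ?_)
    simp [hs]
  have hrne : LinearMap.range N ≠ ⊥ := fun h0 => hN0 (LinearMap.range_eq_bot.1 h0)
  have h2 := N.finrank_range_add_finrank_ker
  rw [hdim] at h2
  have h3 := hbig _ hkerW hkne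
  have h4 := hbig _ hranW hrne
  set L := LinearMap.range N with hL
  let y : Module.End F L := X'.restrict hranW
  have hpow : ∀ (i : ℕ) (v : L), ((y ^ i) v).1 = (X' ^ i) v.1 := by
    intro i
    induction i with
    | zero => intro v; simp
    | succ i ih =>
      intro v
      rw [pow_succ', pow_succ', Module.End.mul_apply, Module.End.mul_apply, ← ih]
      rfl
  have hae : ∀ (q : F[X]) (v : L), ((aeval y q) v).1 = (aeval X' q) v.1 := by
    intro q
    induction q using Polynomial.induction_on' with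
    | add a b ha hb => intro v; simp [ha, hb]
    | monomial i a =>
      intro v
      simp [aeval_monomial, hpow, Module.algebraMap_end_apply]
  refine false_of_reverse (n := m + 1) hr hr2 (by rwa [← he, hkη] at hodd) (hk.symm.trans (by omega))
    (by omega) (by omega) y ?_ ?_ ?_
  · exact LinearMap.ext fun v => Subtype.ext (by rw [hpow, hXr]; rfl)
  · intro v hv
    exact Subtype.ext (hnofix v.1 (congrArg Subtype.val hv))
  set f := minpoly F y with hf
  set Z' : Module.End F (Fin (m + 1) ⊕ Fin (m + 1) → F) := X' ^ (r - 1) with hZ'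
  have hiso : ∀ a b, Cfsg.sympForm (m + 1) F (X' a) (X' b) = Cfsg.sympForm (m + 1) F a b :=
    fun a b => sympForm_smul x a b
  have hXZ : ∀ a, X' (Z' a) = a := fun a => by
    rw [← Module.End.mul_apply, hZ', ← pow_succ', Nat.sub_add_cancel hr.one_lt.le, hXr]
    rfl
  have hadj : ∀ (q : F[X]) a b, Cfsg.sympForm (m + 1) F ((aeval X' q) a) b =
      Cfsg.sympForm (m + 1) F a ((aeval Z' q) b) := by
    intro q
    induction q using Polynomial.induction_on' with
    | add c d hc hd => intro a b; simp [sympForm_add_left, sympForm_add_right, hc, hd]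
    | monomial i c =>
      have hi : ∀ (i : ℕ) a b, Cfsg.sympForm (m + 1) F ((X' ^ i) a) b =
          Cfsg.sympForm (m + 1) F a ((Z' ^ i) b) := by
        intro i
        induction i with
        | zero => intro a b; simp
        | succ i ih =>
          intro a b
          rw [pow_succ' X', pow_succ Z', Module.End.mul_apply, Module.End.mul_apply]
          conv_lhs => rw [← hXZ b, hiso, ih]
      intro a b
      simp [aeval_monomial, sympForm_smul_left, sympForm_smul_right, hi, Module.algebraMap_end_apply]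
  refine LinearMap.ext fun v => Subtype.ext ?_
  rw [← aeval_X (R := F) y, ← map_pow, ← aeval_comp, hae, aeval_comp, map_pow, aeval_X]
  change (aeval Z' f) v.1 = 0
  refine Omega.sympBilin_nondegenerate _ fun w => ?_
  rw [Omega.sympBilin_apply, sympForm_skew, ← hadj]
  have hker : N ((aeval X' f) w) = 0 := by
    have h5 : Commute (aeval X' f) N := by
      induction f using Polynomial.induction_on' with
      | add c d hc hd => rw [map_add]; exact hc.add_left hd
      | monomial i c => rw [aeval_monomial]; exact (Algebra.commute_algebraMap_left c N).mul_left (hcomm.pow_left i)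
    rw [← Module.End.mul_apply, ← h5.eq, Module.End.mul_apply]
    have h6 := hae f ⟨N w, LinearMap.mem_range_self N w⟩
    have h7 : aeval y f = 0 := minpoly.aeval F y
    rw [h7] at h6
    exact h6.symm
  obtain ⟨z, hz⟩ := v.2
  rw [← hz]
  have huv : ∀ a b, Cfsg.sympForm (m + 1) F (toEnd u.1 a) (toEnd u.1 b) =
      Cfsg.sympForm (m + 1) F a b := fun a b => sympForm_smul u a b
  have hsplit : ∀ a, N a = toEnd u.1 a - a := fun a => by simp [hN']
  have hfixw : toEnd u.1 ((aeval X' f) w) = (aeval X' f) w := by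
    rwa [hsplit, sub_eq_zero] at hker
  rw [hsplit, sympForm_sub_right, neg_sub, sub_eq_zero]
  conv_rhs => rw [← hfixw]
  exact (huv _ _).symm

end CfsgLib.SympPrimeAdj
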